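import Cfsg.Agent.Lib.Lead.Co2.Real
import Cfsg.Prelude.Def_Spor_Conway

/-!
# The second Conway group of the statements is isomorphic to the permutation group on 2300 points
-/

set_option autoImplicit false

namespace Cfsg.Agent.Co2P

open Cfsg Cfsg.Agent.Lib.Helper6.Leech Cfsg.Agent.Lib.Helper6.Golay Cfsg.Agent.PL

theorem v0'_eq : v0' = Spor.leechU := by
  apply Subtype.ext
  show vecOf v0L = Spor.vecU
  rw [vecOf_v0L]
  funext k
  rw [w2, Spor.vecU]
  split_ifs <;> simp_all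

theorem mem_Co2_iff (σ : Equiv.Perm leechLattice) :
    σ ∈ Spor.Co2 ↔ ∃ h : σ ∈ Co0, (⟨σ, h⟩ : Co0) ∈ co2R := by
  constructor
  · rintro ⟨h0, hv⟩
    refine ⟨h0, ?_⟩
    have hv' : σ Spor.leechU = Spor.leechU := hv
    show (⟨σ, h0⟩ : Co0).1 v0' = v0'
    rw [v0'_eq]
    exact hv'
  · rintro ⟨h0, h⟩
    have e1 : (⟨σ, h0⟩ : Co0).1 v0' = v0' := h
    rw [v0'_eq] at e1
    exact ⟨h0, e1⟩

/-- the group of the statements is the reference stabiliser -/
noncomputable def sporEquiv : ↥Spor.Co2 ≃* ↥co2R where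
  toFun σ := ⟨⟨σ.1, ((mem_Co2_iff σ.1).1 σ.2).choose⟩, ((mem_Co2_iff σ.1).1 σ.2).choose_spec⟩
  invFun g := ⟨g.1.1, (mem_Co2_iff g.1.1).2 ⟨g.1.2, g.2⟩⟩
  left_inv _ := rfl
  right_inv _ := rfl
  map_mul' _ _ := rfl

/-- **The second Conway group is isomorphic to the permutation group `P` on 2300 points.** -/
noncomputable def co2Equiv : ↥Spor.Co2 ≃* ↥P := sporEquiv.trans co2REquiv

end Cfsg.Agent.Co2P
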