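import Cfsg.Agent.Lib.Lead.Co2.Iso
import Cfsg.Agent.Lib.Lead.McL.Iso

/-!
# The McLaughlin group inside the second Conway group on 2300 points

The McLaughlin group of the statements is the stabiliser of the vector `(-5, -1, …, -1)` in the second Conway group of
the statements; its image `MP` in the permutation group `P` on 2300 points has 898128000 elements, and the permutation
of a word fixing both reference vectors lies in it.
-/

set_option autoImplicit false

namespace Cfsg.Agent.Co2P

open Cfsg Cfsg.Agent.Lib.Helper6.Leech Cfsg.Agent.Lib.Helper6.Golay Cfsg.Agent.PL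

theorem mcl_le_co2 : Spor.McL ≤ Spor.Co2 := fun _ h => ⟨h.1.1, h.2⟩

/-- the McLaughlin group of the statements as a subgroup of the second Conway group of the statements -/
def McLin : Subgroup ↥Spor.Co2 := Spor.McL.subgroupOf Spor.Co2

theorem mem_McLin (σ : ↥Spor.Co2) : σ ∈ McLin ↔ σ.1 ∈ Spor.McL := Subgroup.mem_subgroupOf

/-- the image of the McLaughlin group in the permutation group on 2300 points -/
noncomputable def MP : Subgroup ↥P := McLin.map co2Equiv.toMonoidHom

/-- the image is isomorphic to the McLaughlin group of the statements -/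
noncomputable def mpEquiv : ↥MP ≃* ↥Spor.McL :=
  (McLin.equivMapOfInjective co2Equiv.toMonoidHom co2Equiv.injective).symm.trans
    (Subgroup.subgroupOfEquivOfLe mcl_le_co2)

theorem card_MP : Nat.card ↥MP = 898128000 := by
  rw [Nat.card_congr mpEquiv.toEquiv, Nat.card_congr Cfsg.Agent.McLP.mclEquiv.toEquiv, Cfsg.Agent.McLP.card_P]

instance : Finite ↥MP := Nat.finite_of_card_ne_zero (by rw [card_MP]; norm_num)

theorem mem_MP_iff (g : ↥P) : g ∈ MP ↔ (co2Equiv.symm g).1 ∈ Spor.McL := by
  constructor
  · rintro ⟨σ, hσ, rfl⟩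
    have : co2Equiv.symm (co2Equiv.toMonoidHom σ) = σ := co2Equiv.symm_apply_apply σ
    rw [this]
    exact (mem_McLin σ).1 hσ
  · intro h
    exact ⟨co2Equiv.symm g, (mem_McLin _).2 h, co2Equiv.apply_symm_apply g⟩

/-- the element of the reference stabiliser of a word fixing both reference vectors, with its permutation -/
theorem exists_rho_eq_mcl (w : List Prim) (hw : GoodWord [v0L, u0L] w) (c : ℕ) (hic : IsCode 2300 c)
    (hact : ∀ i < 2300, actOK w c i = true) :
    ∃ g : co2R, rho g = dec 2300 c ∧ g.1.1 u0 = u0 := by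
  have hw1 : GoodWord [v0L] w := ⟨hw.1, fun r hr => hw.2 r (by
    rw [List.mem_singleton] at hr; rw [hr]; exact List.mem_cons_self)⟩
  obtain ⟨g, hg⟩ := exists_of_goodWord w hw1
  refine ⟨g, Equiv.ext fun i => ?_, ?_⟩
  · rw [rho_apply]
    have hq : q (act g (lo i)) = vecOf (actW w (Co2P.pt i.val)) := by
      rw [q_act]
      exact (hg (qL (lo i)) (q_mem (lo i)).1).trans (by rw [qL_lo])
    have := hact i.val i.2
    rw [actOK, eqOrPartner, Bool.or_eq_true, beq_iff_eq, beq_iff_eq] at this
    have hj : lk c i.val = (dec 2300 c i).val := (dec_apply n_le hic i).symm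
    rw [hj] at this
    rcases this with h | h
    · have h2 : q (act g (lo i)) = q (lo (dec 2300 c i)) := by
        rw [hq, h]
        show _ = vecOf (qL (lo (dec 2300 c i)))
        rw [qL_lo]
      rw [q_injective h2, fold_lo]
    · have h2 : q (act g (lo i)) = q (hi (dec 2300 c i)) := by
        rw [hq, h]
        show _ = vecOf (qL (hi (dec 2300 c i)))
        rw [qL_hi]
      rw [q_injective h2, fold_hi]
  · apply Subtype.ext
    show ((g.1.1 ⟨vecOf u0L, u0L_mem⟩ : leechLattice) : GolayPt → ℤ) = vecOf u0L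
    rw [hg u0L u0L_mem]
    exact hw.2 u0L (List.mem_cons_of_mem _ List.mem_cons_self)

/-- **the permutation of a word fixing both reference vectors lies in the image of the McLaughlin group** -/
theorem mem_MP_of_word (w : List Prim) (hw : GoodWord [v0L, u0L] w) (c : ℕ) (hic : IsCode 2300 c)
    (hact : ∀ i < 2300, actOK w c i = true) : ∃ g : ↥P, g ∈ MP ∧ enc 2300 g.1 = c := by
  obtain ⟨g0, hρ, hu⟩ := exists_rho_eq_mcl w hw c hic hact
  refine ⟨co2REquiv g0, ?_, ?_⟩
  · rw [mem_MP_iff]
    have e : co2Equiv.symm (co2REquiv g0) = sporEquiv.symm g0 := by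
      apply co2Equiv.injective
      rw [co2Equiv.apply_symm_apply]
      show _ = co2REquiv (sporEquiv (sporEquiv.symm g0))
      rw [sporEquiv.apply_symm_apply]
    rw [e]
    show g0.1.1 ∈ Spor.McL
    rw [Cfsg.Agent.McLP.mem_McL_iff]
    refine ⟨g0.1.2, ?_⟩
    have hv : g0.1.1 v0' = v0' := g0.2
    exact ⟨hu, hv⟩
  · show enc 2300 (rho g0) = c
    rw [hρ]
    exact enc_dec hic

end Cfsg.Agent.Co2P
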