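import Cfsg.Agent.Lib.Lead.Co2.OutChk
import Cfsg.Agent.Lib.Lead.PL.Regs
import Cfsg.Agent.Lib.Lead.PChain
import Cfsg.Agent.Lib.Helper6.OutGeneric

/-!
# The outer automorphism group of the second Conway group is trivial

The group `P` on 2300 points contains an element `x` of order 23 with `C(x) = ⟨x⟩`, an element `y` of order 11 with
`y x y⁻¹ = x ^ 9` and `C(y) = ⟨y⟩`, and an element `w` with `w y w⁻¹ = y ^ 7`; they generate `P`.  After composing with
an inner automorphism, an automorphism maps `(x, y, w)` to `(x ^ r, y, w y ^ i)` with `r = ±1`; the product `x w` has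
order 15, and `(x ^ r w y ^ i) ^ 15 ≠ 1` unless `r = 1` and `i = 0`.
-/

set_option autoImplicit false

namespace Cfsg.Agent.Co2P

open Cfsg Cfsg.Agent.PL
open Cfsg.Agent.PG (fixer fixer_nil allB allB_iff)

/-! ### the elements `x`, `y`, `w` -/

/-- the registers of the generators -/
noncomputable def bs : List ↥P :=
  [⟨gB⁻¹, P.inv_mem gB_mem⟩, ⟨gB, gB_mem⟩, ⟨gA⁻¹, P.inv_mem gA_mem⟩, ⟨gA, gA_mem⟩]

theorem bs_ok : RegsOK P bs [cbi, cb, cai, ca] :=
  List.Forall₂.cons enc_gBi (List.Forall₂.cons enc_gB (List.Forall₂.cons enc_gAi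
    (List.Forall₂.cons enc_gA List.Forall₂.nil)))

theorem xyw_ex : ∀ c ∈ [cx, cy, cw], ∃ g ∈ P, enc 2300 g = c :=
  exists_of_run n_le bs_ok progXYW idxXYW _ chk_xyw

/-- the element of order 23 -/
noncomputable def x : Equiv.Perm (Fin 2300) := dec 2300 cx
/-- the element of order 11 -/
noncomputable def y : Equiv.Perm (Fin 2300) := dec 2300 cy
/-- the element normalising `⟨y⟩` -/
noncomputable def w : Equiv.Perm (Fin 2300) := dec 2300 cw

theorem x_spec : x ∈ P ∧ enc 2300 x = cx := mem_of_code n_le (xyw_ex cx List.mem_cons_self)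
theorem y_spec : y ∈ P ∧ enc 2300 y = cy :=
  mem_of_code n_le (xyw_ex cy (List.mem_cons_of_mem _ List.mem_cons_self))
theorem w_spec : w ∈ P ∧ enc 2300 w = cw :=
  mem_of_code n_le (xyw_ex cw (List.mem_cons_of_mem _ (List.mem_cons_of_mem _ List.mem_cons_self)))

theorem acts_x : Acts x (lk cx) := Acts.of_enc n_le x_spec.2
theorem acts_y : Acts y (lk cy) := Acts.of_enc n_le y_spec.2
theorem acts_w : Acts w (lk cw) := Acts.of_enc n_le w_spec.2

theorem of_allB {f g : ℕ → ℕ} (h : allB 2300 (fun q => Nat.beq (f q) (g q)) = true) : ∀ q < 2300, f q = g q :=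
  fun q hq => Nat.eq_of_beq_eq_true (allB_iff.1 h q hq)

theorem x_pow : x ^ 23 = 1 := (acts_x.pow 23).eq_one (of_allB chk_relX.1)
theorem x_ne : x ≠ 1 := acts_x.ne_one (q := 0) (by norm_num) chk_relX.2
theorem y_pow : y ^ 11 = 1 := (acts_y.pow 11).eq_one (of_allB chk_relY.1)
theorem y_ne : y ≠ 1 := acts_y.ne_one (q := 0) (by norm_num) chk_relY.2

instance fact23 : Fact (Nat.Prime 23) := ⟨by norm_num⟩
instance fact11 : Fact (Nat.Prime 11) := ⟨by norm_num⟩

theorem orderOf_x : orderOf x = 23 := orderOf_eq_prime x_pow x_ne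
theorem orderOf_y : orderOf y = 11 := orderOf_eq_prime y_pow y_ne

theorem yx : y * x = x ^ 9 * y := (acts_y.mul acts_x).eq ((acts_x.pow 9).mul acts_y) (of_allB chk_relYX)
theorem wy : w * y = y ^ 7 * w := (acts_w.mul acts_y).eq ((acts_y.pow 7).mul acts_w) (of_allB chk_relWY)
theorem xw_pow : (x * w) ^ 15 = 1 := ((acts_x.mul acts_w).pow 15).eq_one (of_allB chk_relXW)

/-! ### the group generated by `x`, `y`, `w` -/

/-- the subgroup generated by `x`, `y`, `w` -/
noncomputable def K : Subgroup (Equiv.Perm (Fin 2300)) := Subgroup.closure {x, y, w}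

theorem x_mem_K : x ∈ K := Subgroup.subset_closure (Set.mem_insert _ _)
theorem y_mem_K : y ∈ K := Subgroup.subset_closure (Set.mem_insert_of_mem _ (Set.mem_insert _ _))
theorem w_mem_K : w ∈ K :=
  Subgroup.subset_closure (Set.mem_insert_of_mem _ (Set.mem_insert_of_mem _ rfl))

theorem K_le : K ≤ P := by
  rw [K, Subgroup.closure_le]
  intro g hg
  rcases hg with rfl | rfl | rfl
  · exact x_spec.1
  · exact y_spec.1
  · exact w_spec.1

/-- the registers of `x`, `y`, `w` -/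
noncomputable def ks : List ↥K := [⟨w, w_mem_K⟩, ⟨y, y_mem_K⟩, ⟨x, x_mem_K⟩]

theorem ks_ok : RegsOK K ks [cw, cy, cx] :=
  List.Forall₂.cons w_spec.2 (List.Forall₂.cons y_spec.2 (List.Forall₂.cons x_spec.2 List.Forall₂.nil))

theorem sgA_ex : ∀ c ∈ sgAList, ∃ g ∈ K, enc 2300 g = c :=
  exists_of_run n_le ks_ok progSGA idxSGA _ chk_sgA

theorem xyw_exK : ∀ c ∈ [cx, cy, cw], ∃ g ∈ K, enc 2300 g = c := by
  intro c hc
  simp only [List.mem_cons, List.not_mem_nil, or_false] at hc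
  rcases hc with rfl | rfl | rfl
  · exact ⟨x, x_mem_K, x_spec.2⟩
  · exact ⟨y, y_mem_K, y_spec.2⟩
  · exact ⟨w, w_mem_K, w_spec.2⟩

theorem codesA_ex : ∀ c ∈ codesA, ∃ g ∈ K, enc 2300 g = c := by
  intro c hc
  rw [codesA, List.mem_append] at hc
  rcases hc with h | h
  · exact xyw_exK c h
  · exact sgA_ex c h

theorem levels_of_codes (H : Subgroup (Equiv.Perm (Fin 2300))) (codes : List ℕ) (Ls : List Level)
    (hchk : (Ls.all fun L => L.2.1.all fun c => codes.contains c) = true)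
    (h : ∀ c ∈ codes, ∃ g ∈ H, enc 2300 g = c) : ∀ L ∈ Ls, ∀ c ∈ L.2.1, ∃ g ∈ H, enc 2300 g = c := by
  intro L hL c hc
  rw [List.all_eq_true] at hchk
  have h1 := hchk L hL
  rw [List.all_eq_true] at h1
  have h2 := h1 c hc
  exact h c (List.contains_iff_mem.1 h2)

theorem hcA_K : ∀ L ∈ LsA, ∀ c ∈ L.2.1, ∃ g ∈ K, enc 2300 g = c :=
  levels_of_codes K codesA LsA chk_gensA codesA_ex

theorem card_K_ge : 42305421312000 ≤ Nat.card K := by
  have := tree_sound n_le K 16 LsA [] chk_treeA hcA_K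
  rw [fixer_nil, chk_countsA] at this
  exact this

theorem K_eq : K = P := Subgroup.eq_of_le_of_card_ge K_le (by rw [card_P]; exact card_K_ge)

theorem hcA : ∀ L ∈ LsA, ∀ c ∈ L.2.1, ∃ g ∈ P, enc 2300 g = c := by
  intro L hL c hc
  obtain ⟨g, hg, he⟩ := hcA_K L hL c hc
  exact ⟨g, K_le hg, he⟩

/-! ### the centralisers of `x` and `y` -/

theorem LsA_ne : LsA ≠ [] := by rw [LsA]; exact List.cons_ne_nil _ _
theorem LsB_ne : LsB ≠ [] := by rw [LsB]; exact List.cons_ne_nil _ _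

theorem cent_x_le : {c : Equiv.Perm (Fin 2300) | c ∈ P ∧ c * x = x * c}.ncard ≤ 23 := by
  have := ncard_conj_le n_le P 16 x x [] LsA LsA_ne chk_treeA hcA (by rw [chk_countsA, card_P])
    (by rw [x_spec.2]; exact chk_cycA)
  rw [x_spec.2, chk_centX] at this
  exact this

/-- the registers of the generators of the point stabiliser -/
theorem sgA1_ex : (∃ g ∈ P, enc 2300 g = sgA_1_0) ∧ ∃ g ∈ P, enc 2300 g = sgA_1_1 := by
  have h0 : sgA_1_0 ∈ sgAList := by rw [sgAList]; exact List.mem_cons_self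
  have h1 : sgA_1_1 ∈ sgAList := by rw [sgAList]; exact List.mem_cons_of_mem _ List.mem_cons_self
  obtain ⟨g0, hg0, he0⟩ := sgA_ex _ h0
  obtain ⟨g1, hg1, he1⟩ := sgA_ex _ h1
  exact ⟨⟨g0, K_le hg0, he0⟩, ⟨g1, K_le hg1, he1⟩⟩

/-- the registers of the generators of the point stabiliser -/
noncomputable def ls : List ↥P :=
  [⟨dec 2300 sgA_1_1, (mem_of_code n_le sgA1_ex.2).1⟩, ⟨dec 2300 sgA_1_0, (mem_of_code n_le sgA1_ex.1).1⟩]

theorem ls_ok : RegsOK P ls [sgA_1_1, sgA_1_0] :=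
  List.Forall₂.cons (mem_of_code n_le sgA1_ex.2).2 (List.Forall₂.cons (mem_of_code n_le sgA1_ex.1).2
    List.Forall₂.nil)

theorem sgB_ex : ∀ c ∈ sgBList, ∃ g ∈ P, enc 2300 g = c :=
  exists_of_run n_le ls_ok progSGB idxSGB _ chk_sgB

theorem codesB_ex : ∀ c ∈ codesB, ∃ g ∈ P, enc 2300 g = c := by
  intro c hc
  rw [codesB, List.mem_append, List.mem_append] at hc
  rcases hc with (h | h) | h
  · exact xyw_ex c h
  · simp only [List.mem_cons, List.not_mem_nil, or_false] at h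
    rcases h with rfl | rfl
    · exact sgA1_ex.1
    · exact sgA1_ex.2
  · exact sgB_ex c h

theorem hcB : ∀ L ∈ LsB, ∀ c ∈ L.2.1, ∃ g ∈ P, enc 2300 g = c :=
  levels_of_codes P codesB LsB chk_gensB codesB_ex

theorem cent_y_le : {c : Equiv.Perm (Fin 2300) | c ∈ P ∧ c * y = y * c}.ncard ≤ 11 := by
  have := ncard_conj_le n_le P 16 y y [] LsB LsB_ne chk_treeB hcB (by rw [chk_countsB, card_P])
    (by rw [y_spec.2]; exact chk_cycB)
  rw [y_spec.2, chk_centY] at this
  exact this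

/-- an element of `P` whose centraliser in `P` has at most as many elements as its order is self-centralising -/
theorem mem_zpowers_of_cent {g : Equiv.Perm (Fin 2300)} (hg : g ∈ P) {k : ℕ} (hk : orderOf g = k)
    (hle : {c : Equiv.Perm (Fin 2300) | c ∈ P ∧ c * g = g * c}.ncard ≤ k)
    {c : Equiv.Perm (Fin 2300)} (hc : c ∈ P) (hcg : c * g = g * c) : c ∈ Subgroup.zpowers g := by
  have hsub : (Subgroup.zpowers g : Set (Equiv.Perm (Fin 2300))) ⊆
      {c : Equiv.Perm (Fin 2300) | c ∈ P ∧ c * g = g * c} := by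
    intro d hd
    obtain ⟨j, rfl⟩ := Subgroup.mem_zpowers_iff.1 hd
    exact ⟨P.zpow_mem hg j, (Commute.zpow_self g j).eq⟩
  have hcard : (Subgroup.zpowers g : Set (Equiv.Perm (Fin 2300))).ncard = k := by
    rw [← hk, ← Nat.card_zpowers]
    rfl
  have heq := Set.eq_of_subset_of_ncard_le hsub (by rw [hcard]; exact hle) (Set.toFinite _)
  have : c ∈ {c : Equiv.Perm (Fin 2300) | c ∈ P ∧ c * g = g * c} := ⟨hc, hcg⟩
  rw [← heq] at this
  exact this

/-! ### the elements in the group `P` -/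

/-- `x` in `P` -/
noncomputable def xP : ↥P := ⟨x, x_spec.1⟩
/-- `y` in `P` -/
noncomputable def yP : ↥P := ⟨y, y_spec.1⟩
/-- `w` in `P` -/
noncomputable def wP : ↥P := ⟨w, w_spec.1⟩

theorem orderOf_xP : orderOf xP = 23 := by
  rw [← orderOf_x]
  exact (Subgroup.orderOf_coe xP).symm

theorem orderOf_yP : orderOf yP = 11 := by
  rw [← orderOf_y]
  exact (Subgroup.orderOf_coe yP).symm

theorem zpowers_coe {g : ↥P} {c : ↥P} (h : c.1 ∈ Subgroup.zpowers g.1) : c ∈ Subgroup.zpowers g := by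
  obtain ⟨j, hj⟩ := Subgroup.mem_zpowers_iff.1 h
  rw [Subgroup.mem_zpowers_iff]
  exact ⟨j, Subtype.ext (by rw [Subgroup.coe_zpow]; exact hj)⟩

theorem hCx : ∀ c : ↥P, c * xP = xP * c → c ∈ Subgroup.zpowers xP := by
  intro c hc
  apply zpowers_coe
  exact mem_zpowers_of_cent x_spec.1 orderOf_x cent_x_le c.2 (congrArg Subtype.val hc)

theorem hCy : ∀ c : ↥P, c * yP = yP * c → c ∈ Subgroup.zpowers yP := by
  intro c hc
  apply zpowers_coe
  exact mem_zpowers_of_cent y_spec.1 orderOf_y cent_y_le c.2 (congrArg Subtype.val hc)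

theorem hyP : yP * xP * yP⁻¹ = xP ^ 9 := by
  apply Subtype.ext
  show y * x * y⁻¹ = x ^ 9
  rw [yx, mul_inv_cancel_right]

theorem hwP : wP * yP * wP⁻¹ = yP ^ 7 := by
  apply Subtype.ext
  show w * y * w⁻¹ = y ^ 7
  rw [wy, mul_inv_cancel_right]

theorem hgenP : Subgroup.closure {xP, yP, wP} = (⊤ : Subgroup ↥P) := by
  apply Subgroup.map_injective P.subtype_injective
  rw [MonoidHom.map_closure, ← MonoidHom.range_eq_map, Subgroup.range_subtype]
  have : (P.subtype '' {xP, yP, wP} : Set (Equiv.Perm (Fin 2300))) = {x, y, w} := by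
    rw [Set.image_insert_eq, Set.image_insert_eq, Set.image_singleton]
    rfl
  rw [this]
  exact K_eq

/-- the candidates for the image of `w` -/
noncomputable def Cy : Finset ↥P := (Finset.range 11).image fun i => yP ^ i

theorem hCyP : ∀ c : ↥P, c * yP = yP * c → c ∈ Cy := by
  intro c hc
  obtain ⟨i, hi, rfl⟩ := PChain.mem_zpowers_nat orderOf_yP (by norm_num) (hCy c hc)
  exact Finset.mem_image.2 ⟨i, Finset.mem_range.2 hi, rfl⟩

theorem hR : ∀ k < 23, k ≠ 0 → ∃ j : ℕ, ∃ r ∈ ({1, 22} : Finset ℕ), (k * 9 ^ j) % 23 = r % 23 := by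
  have h : ∀ k < 23, k ≠ 0 → ∃ j < 11, ∃ r ∈ ({1, 22} : Finset ℕ), (k * 9 ^ j) % 23 = r % 23 := by decide
  intro k hk hk0
  obtain ⟨j, -, r, hr, e⟩ := h k hk hk0
  exact ⟨j, r, hr, e⟩

theorem hsolve : ∀ i < 23, ∃ a : ℕ, (a + 9 * i) % 23 = (9 * a) % 23 := fun i _ => ⟨4 * i, by omega⟩

/-- the candidates other than the identity do not extend to automorphisms -/
theorem hkill : ∀ r ∈ ({1, 22} : Finset ℕ), ∀ c ∈ Cy,
    (∃ β : MulAut ↥P, β xP = xP ^ r ∧ β yP = yP ∧ β wP = wP * c) → xP ^ r = xP ∧ c = 1 := by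
  intro r hr c hc ⟨β, hβx, _, hβw⟩
  obtain ⟨i, hi, rfl⟩ := Finset.mem_image.1 hc
  rw [Finset.mem_range] at hi
  -- the image of `(x w) ^ 15 = 1`
  have h1 : (xP * wP) ^ 15 = 1 := Subtype.ext (by
    show (x * w) ^ 15 = 1
    exact xw_pow)
  have h2 : (xP ^ r * (wP * yP ^ i)) ^ 15 = 1 := by
    have := congrArg β h1
    rw [map_pow, map_mul, hβx, hβw, map_one] at this
    exact this
  have h3 : (x ^ r * (w * y ^ i)) ^ 15 = 1 := congrArg Subtype.val h2
  have hact : Acts ((x ^ r * (w * y ^ i)) ^ 15) ((candF r i)^[15]) :=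
    ((acts_x.pow r).mul (acts_w.mul (acts_y.pow i))).pow 15
  have hr' : r ∈ [1, 22] := by
    simp only [Finset.mem_insert, Finset.mem_singleton] at hr
    simp only [List.mem_cons, List.not_mem_nil, or_false]
    exact hr
  have hk := chk_kill
  rw [List.all_eq_true] at hk
  have hk1 := hk r hr'
  rw [List.all_eq_true] at hk1
  have hk2 := hk1 i (List.mem_range.2 hi)
  rw [Bool.or_eq_true, Bool.and_eq_true] at hk2
  rcases hk2 with ⟨e1, e2⟩ | hk3
  · have hr1 : r = 1 := Nat.eq_of_beq_eq_true e1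
    have hi0 : i = 0 := Nat.eq_of_beq_eq_true e2
    rw [hr1, hi0, pow_one, pow_zero]
    exact ⟨rfl, rfl⟩
  · exfalso
    have hne : (candF r i)^[15] q0 ≠ q0 := by
      intro he
      rw [he, Nat.beq_refl] at hk3
      exact absurd hk3 (by simp)
    exact hact.ne_one (q := q0) (by rw [q0]; norm_num) hne h3

/-- every automorphism of the permutation group is inner -/
theorem all_inner_P (α : MulAut ↥P) : ∃ g : ↥P, α = MulAut.conj g :=
  PChain.all_inner 23 (by rw [card_P]; norm_num) xP yP wP orderOf_xP hCx 9 hyP {1, 22} hR hsolve Cy hCyP 7 hwP hgenP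
    hkill α

/-- the outer automorphism group of the permutation group is trivial -/
theorem card_out_P : Nat.card (Cfsg.Out ↥P) = 1 := PChain.card_out_eq_one_of_inner all_inner_P

/-- **The outer automorphism group of the second Conway group is trivial.** -/
theorem card_out_Co2 : Nat.card (Cfsg.Out ↥Cfsg.Spor.Co2) = 1 := by
  rw [Cfsg.Agent.Lib.Helper6.OutGeneric.card_out_congr co2Equiv]
  exact card_out_P

end Cfsg.Agent.Co2P
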