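import Cfsg.Agent.Lib.Lead.Co2.Chk

/-!
# The second Conway group as a permutation group on 2300 points

The stabiliser `co2R` of the reference minimal vector `v0'` permutes the 4600 minimal vectors `x` with `x·v0' = -16`,
hence the 2300 pairs `{x, -v0' - x}`; this action is faithful, and its image `P` contains two explicit permutations.
-/

set_option autoImplicit false

namespace Cfsg.Agent.Co2P

open Cfsg Cfsg.Agent.Lib.Helper6.Leech Cfsg.Agent.Lib.Helper6.Golay Cfsg.Agent.PL
open Cfsg.Agent.PG (strict strict_eq)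

theorem n_le : (2300 : ℕ) ≤ 4096 := by norm_num

/-- the stabiliser of the reference minimal vector -/
abbrev co2R : Subgroup Co0 := MulAction.stabilizer Co0 v0'

/-- the 4600 minimal vectors with inner product `-16` with the reference vector -/
def S : Set (GolayPt → ℤ) := census (vecOf v0L) (-16)

theorem S_ncard : S.ncard = 4600 := (census_vals (vecOf v0L) v0L_mem v0L_norm).1

theorem mem_S {x : GolayPt → ℤ} : x ∈ S ↔ x ∈ leechLattice ∧ sqNorm x = 32 ∧ dotInt (vecOf v0L) x = -16 := Iff.rfl

theorem vecOf_negSubL (u x : List ℤ) : vecOf (negSubL u x) = -vecOf u - vecOf x := by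
  funext p
  have hp := idx_lt p
  simp only [vecOf, negSubL, Pi.sub_apply, Pi.neg_apply]
  rw [List.getD_eq_getElem?_getD, List.getElem?_map, List.getElem?_range hp]
  rfl

theorem pt_eq (i : ℕ) : Co2P.pt i = (List.range 24).map fun j => dig (ptN i) j := by
  rw [Co2P.pt, strict_eq]

theorem pt_length (i : ℕ) : (Co2P.pt i).length = 24 := by
  rw [pt_eq, List.length_map, List.length_range]

theorem negSubL_length (u x : List ℤ) : (negSubL u x).length = 24 := by
  rw [negSubL, List.length_map, List.length_range]

/-- the partner of a vector of the set is in the set -/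
theorem partner_mem {x : GolayPt → ℤ} (hx : x ∈ S) : -vecOf v0L - x ∈ S := by
  obtain ⟨h1, h2, h3⟩ := hx
  have hv := v0L_norm
  refine ⟨sub_mem (neg_mem v0L_mem) h1, ?_, ?_⟩
  · simp only [sqNorm, dotInt] at h2 h3 hv ⊢
    have e : ∀ i : GolayPt, ((-vecOf v0L - x) i) ^ 2 = vecOf v0L i ^ 2 + 2 * (vecOf v0L i * x i) + x i ^ 2 := by
      intro i
      simp only [Pi.sub_apply, Pi.neg_apply]
      ring
    rw [Finset.sum_congr rfl fun i _ => e i, Finset.sum_add_distrib, Finset.sum_add_distrib, ← Finset.mul_sum]
    linarith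
  · simp only [sqNorm, dotInt] at h2 h3 hv ⊢
    have e : ∀ i : GolayPt, vecOf v0L i * ((-vecOf v0L - x) i) = -(vecOf v0L i ^ 2) - vecOf v0L i * x i := by
      intro i
      simp only [Pi.sub_apply, Pi.neg_apply]
      ring
    rw [Finset.sum_congr rfl fun i _ => e i, Finset.sum_sub_distrib, Finset.sum_neg_distrib]
    linarith

/-- the image of a vector of the set under an element of the stabiliser -/
theorem image_mem (g : co2R) {x : GolayPt → ℤ} (hx : x ∈ S) :
    ((g.1.1 ⟨x, hx.1⟩ : leechLattice) : GolayPt → ℤ) ∈ S := by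
  have hg : g.1.1 v0' = v0' := g.2
  refine ⟨(g.1.1 ⟨x, hx.1⟩).2, (co0_norm g.1 ⟨x, hx.1⟩).trans hx.2.1, ?_⟩
  have := co0_dot g.1 v0' ⟨x, hx.1⟩
  rw [hg] at this
  exact this.trans hx.2.2

/-- the element of the stabiliser of a good word -/
theorem exists_of_goodWord (w : List Prim) (hw : GoodWord [v0L] w) :
    ∃ g : co2R, ∀ (x : List ℤ) (hx : vecOf x ∈ leechLattice),
      ((g.1.1 ⟨vecOf x, hx⟩ : leechLattice) : GolayPt → ℤ) = vecOf (actW w x) := by
  obtain ⟨t, ht⟩ := actW_sound w hw.1
  have h1 : t.1 v0' = v0' := by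
    apply Subtype.ext
    show ((t.1 ⟨vecOf v0L, v0L_mem⟩ : leechLattice) : GolayPt → ℤ) = vecOf v0L
    rw [ht v0L v0L_mem]
    exact hw.2 v0L List.mem_cons_self
  exact ⟨⟨t, h1⟩, ht⟩

theorem act_mem (w : List Prim) (hw : GoodWord [v0L] w) {x : List ℤ} (hx : vecOf x ∈ S) :
    vecOf (actW w x) ∈ S := by
  obtain ⟨g, hg⟩ := exists_of_goodWord w hw
  rw [← hg x hx.1]
  exact image_mem g hx

theorem co2Gens_good : ∀ w ∈ co2Gens, GoodWord [v0L] w := goodWord_of_checkGens co2Perms_rep co2Gens_ok

theorem wA_good : GoodWord [v0L] wA := co2Gens_good wA (by simp [wA, co2Gens])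
theorem wB_good : GoodWord [v0L] wB := co2Gens_good wB (by simp [wB, co2Gens])

/-! ### the generators -/

/-- the first generator -/
noncomputable def gA : Equiv.Perm (Fin 2300) := dec 2300 ca
/-- the second generator -/
noncomputable def gB : Equiv.Perm (Fin 2300) := dec 2300 cb

theorem isCode_ca : IsCode 2300 ca := isCode_of_codeOK n_le chk_codes.1
theorem isCode_cb : IsCode 2300 cb := isCode_of_codeOK n_le chk_codes.2.1

theorem enc_gA : enc 2300 gA = ca := enc_dec isCode_ca
theorem enc_gB : enc 2300 gB = cb := enc_dec isCode_cb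
theorem enc_gAi : enc 2300 gA⁻¹ = cai := by rw [← pinv_enc n_le, enc_gA]; exact chk_codes.2.2.1
theorem enc_gBi : enc 2300 gB⁻¹ = cbi := by rw [← pinv_enc n_le, enc_gB]; exact chk_codes.2.2.2.1

/-- the step of the spanning tree: the parent of `t` and the generator leading to `t` -/
theorem step_back (g : Equiv.Perm (Fin 2300)) (c ci : ℕ) (hc : enc 2300 g = c) (hci : enc 2300 g⁻¹ = ci)
    {t : ℕ} (ht : t < 2300) : lk ci t < 2300 ∧ lk c (lk ci t) = t := by
  have h1 : lk ci t = ((g⁻¹ ⟨t, ht⟩ : Fin 2300) : ℕ) := by rw [← hci]; exact lk_enc_fin n_le g⁻¹ ⟨t, ht⟩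
  refine ⟨by rw [h1]; exact (g⁻¹ ⟨t, ht⟩).2, ?_⟩
  rw [h1, ← hc, lk_enc_fin n_le g (g⁻¹ ⟨t, ht⟩)]
  simp

/-- membership goes from a point to its image under a generator -/
theorem mem_step (w : List Prim) (hw : GoodWord [v0L] w) (c : ℕ) (hact : ∀ i < 2300, actOK w c i = true)
    {t' : ℕ} (ht' : t' < 2300) (h : vecOf (Co2P.pt t') ∈ S) : vecOf (Co2P.pt (lk c t')) ∈ S := by
  have h1 := act_mem w hw h
  have h2 := hact t' ht'
  rw [actOK, eqOrPartner, Bool.or_eq_true, beq_iff_eq, beq_iff_eq] at h2
  rcases h2 with h2 | h2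
  · rw [h2] at h1; exact h1
  · rw [h2, vecOf_negSubL] at h1
    have := partner_mem h1
    rw [show -vecOf v0L - (-vecOf v0L - vecOf (Co2P.pt (lk c t'))) = vecOf (Co2P.pt (lk c t')) by abel] at this
    exact this

theorem root_mem : vecOf (Co2P.pt 0) ∈ S := by
  have := chk_root
  simp only [Bool.and_eq_true, beq_iff_eq] at this
  obtain ⟨⟨h1, h2⟩, h3⟩ := this
  exact ⟨mem_leechLattice.mpr (inLeechL_sound _ h1), (sqNorm_vecOf _).trans h2, (dotInt_vecOf _ _).trans h3⟩

theorem pt_mem_of_trace : ∀ (fuel t : ℕ), t < 2300 → traceTo [cai, cbi] ptLab 0 fuel t = true →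
    vecOf (Co2P.pt t) ∈ S := by
  intro fuel
  induction fuel with
  | zero =>
    intro t _ h
    rw [traceTo] at h
    rw [Nat.eq_of_beq_eq_true h]
    exact root_mem
  | succ fuel ih =>
    intro t ht h
    rw [traceTo] at h
    cases htb : Nat.beq t 0 with
    | true => rw [Nat.eq_of_beq_eq_true htb]; exact root_mem
    | false =>
      rw [htb, cond_false] at h
      cases hl : Nat.beq (lk ptLab t) 0 with
      | true => rw [hl, cond_true] at h; exact absurd h (by simp)
      | false =>
        rw [hl, cond_false] at h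
        cases hs : nth [cai, cbi] (Nat.pred (lk ptLab t)) with
        | none => rw [hs] at h; exact absurd h (by simp)
        | some s =>
          rw [hs] at h
          have hmem := nth_mem hs
          simp only [List.mem_cons, List.not_mem_nil, or_false] at hmem
          rcases hmem with rfl | rfl
          · obtain ⟨h1, h2⟩ := step_back gA ca cai enc_gA enc_gAi ht
            have := mem_step wA wA_good ca chk_actA h1 (ih _ h1 h)
            rw [h2] at this
            exact this
          · obtain ⟨h1, h2⟩ := step_back gB cb cbi enc_gB enc_gBi ht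
            have := mem_step wB wB_good cb chk_actB h1 (ih _ h1 h)
            rw [h2] at this
            exact this

theorem pt_mem {t : ℕ} (ht : t < 2300) : vecOf (Co2P.pt t) ∈ S := by
  have := List.all_eq_true.1 chk_trace t (List.mem_range.2 ht)
  exact pt_mem_of_trace 24 t ht this

/-! ### the 4600 vectors -/

/-- the `k`-th list -/
def qL (k : Fin 4600) : List ℤ := if k.val < 2300 then Co2P.pt k.val else negSubL v0L (Co2P.pt (k.val - 2300))

theorem qL_length (k : Fin 4600) : (qL k).length = 24 := by
  rw [qL]; split_ifs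
  · exact pt_length _
  · exact negSubL_length _ _

/-- the `k`-th vector -/
def q (k : Fin 4600) : GolayPt → ℤ := vecOf (qL k)

theorem q_mem (k : Fin 4600) : q k ∈ S := by
  rw [q, qL]; split_ifs with h
  · exact pt_mem h
  · rw [vecOf_negSubL]
    exact partner_mem (pt_mem (by have := k.2; omega))

/-- a strictly increasing list has no repetitions -/
theorem incr_sound : ∀ l : List ℕ, incr l = true → l.Pairwise (· < ·)
  | [], _ => List.Pairwise.nil
  | [_], _ => List.pairwise_singleton _ _
  | a :: b :: l, h => by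
    rw [incr, Bool.and_eq_true] at h
    have hab : a < b := by simpa [Nat.blt] using h.1
    have ih := incr_sound (b :: l) h.2
    rw [List.pairwise_cons]
    refine ⟨fun y hy => ?_, ih⟩
    rcases List.mem_cons.1 hy with rfl | hy'
    · exact hab
    · exact lt_trans hab ((List.pairwise_cons.1 ih).1 y hy')

/-- the keys of the representatives -/
def keysA : List ℕ := (List.range 2300).map fun i => keyL (Co2P.pt i)
/-- the keys of the partners -/
def keysB : List ℕ := (List.range 2300).map fun i => keyL (negSubL v0L (Co2P.pt i))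

theorem keys_nodup : (keysA ++ keysB).Nodup := by
  have h := (incr_sound _ chk_keys).imp (fun h => ne_of_lt h)
  have h' : (keysA ++ keysB.reverse).Nodup := h
  exact (List.Perm.nodup_iff (List.Perm.append_left keysA (List.reverse_perm keysB))).1 h'

theorem keysA_length : keysA.length = 2300 := by rw [keysA, List.length_map, List.length_range]
theorem keysB_length : keysB.length = 2300 := by rw [keysB, List.length_map, List.length_range]

theorem keys_length : (keysA ++ keysB).length = 4600 := by rw [List.length_append, keysA_length, keysB_length]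

theorem keys_get (k : Fin 4600) : (keysA ++ keysB)[k.val]'(by rw [keys_length]; exact k.2) = keyL (qL k) := by
  rw [qL]
  split_ifs with h
  · rw [List.getElem_append_left (by rw [keysA_length]; exact h)]
    simp only [keysA, List.getElem_map, List.getElem_range]
  · rw [List.getElem_append_right (by rw [keysA_length]; omega)]
    simp only [keysA_length, keysB, List.getElem_map, List.getElem_range]

theorem q_injective : Function.Injective q := by
  intro i j h
  have h2 : qL i = qL j := by
    rw [← listOf_vecOf _ (qL_length i), ← listOf_vecOf _ (qL_length j)]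
    exact congrArg listOf h
  have h3 : (keysA ++ keysB)[i.val]'(by rw [keys_length]; exact i.2) =
      (keysA ++ keysB)[j.val]'(by rw [keys_length]; exact j.2) := by rw [keys_get, keys_get, h2]
  exact Fin.ext ((List.Nodup.getElem_inj_iff keys_nodup).1 h3)

theorem range_q : Set.range q = S := by
  apply Set.eq_of_subset_of_ncard_le
  · rintro _ ⟨i, rfl⟩; exact q_mem i
  · rw [S_ncard, Set.ncard_range_of_injective q_injective, Nat.card_fin]
  · exact Set.finite_of_ncard_ne_zero (by rw [S_ncard]; norm_num)

theorem exists_q {x : GolayPt → ℤ} (hx : x ∈ S) : ∃ k, q k = x := by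
  rw [← range_q] at hx; exact hx

/-- the index of a vector -/
noncomputable def qidx (x : GolayPt → ℤ) (hx : x ∈ S) : Fin 4600 := (exists_q hx).choose

theorem q_qidx (x : GolayPt → ℤ) (hx : x ∈ S) : q (qidx x hx) = x := (exists_q hx).choose_spec

/-- the pair of a vector -/
def fold (k : Fin 4600) : Fin 2300 := ⟨k.val % 2300, Nat.mod_lt _ (by norm_num)⟩

/-- the representative of a pair -/
def lo (i : Fin 2300) : Fin 4600 := ⟨i.val, by have := i.2; omega⟩

/-- the partner of the representative of a pair -/
def hi (i : Fin 2300) : Fin 4600 := ⟨i.val + 2300, by have := i.2; omega⟩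

theorem fold_lo (i : Fin 2300) : fold (lo i) = i := Fin.ext (Nat.mod_eq_of_lt i.2)

theorem fold_hi (i : Fin 2300) : fold (hi i) = i := by
  apply Fin.ext
  show (i.val + 2300) % 2300 = i.val
  rw [Nat.add_mod_right, Nat.mod_eq_of_lt i.2]

theorem lo_or_hi (k : Fin 4600) : k = lo (fold k) ∨ k = hi (fold k) := by
  rcases Nat.lt_or_ge k.val 2300 with h | h
  · left; apply Fin.ext; show k.val = k.val % 2300; rw [Nat.mod_eq_of_lt h]
  · right; apply Fin.ext; show k.val = k.val % 2300 + 2300
    have := k.2
    omega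

theorem qL_lo (i : Fin 2300) : qL (lo i) = Co2P.pt i.val := by
  rw [qL, if_pos (show (lo i).val < 2300 from i.2)]
  rfl

theorem qL_hi (i : Fin 2300) : qL (hi i) = negSubL v0L (Co2P.pt i.val) := by
  rw [qL, if_neg (show ¬ (hi i).val < 2300 by show ¬ i.val + 2300 < 2300; omega)]
  show negSubL v0L (Co2P.pt (i.val + 2300 - 2300)) = _
  rw [Nat.add_sub_cancel]

theorem q_hi (i : Fin 2300) : q (hi i) = -vecOf v0L - q (lo i) := by
  show vecOf (qL (hi i)) = -vecOf v0L - vecOf (qL (lo i))
  rw [qL_hi, qL_lo, vecOf_negSubL]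

theorem q_lo (i : Fin 2300) : q (lo i) = -vecOf v0L - q (hi i) := by
  rw [q_hi]; abel

/-- the action on the 4600 indices -/
noncomputable def act (g : co2R) (k : Fin 4600) : Fin 4600 :=
  qidx _ (image_mem g (q_mem k))

theorem q_act (g : co2R) (k : Fin 4600) :
    q (act g k) = ((g.1.1 ⟨q k, (q_mem k).1⟩ : leechLattice) : GolayPt → ℤ) := q_qidx _ _

theorem act_one (k : Fin 4600) : act 1 k = k := q_injective (by rw [q_act]; rfl)

theorem act_mul (g h : co2R) (k : Fin 4600) : act (g * h) k = act g (act h k) := by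
  apply q_injective
  rw [q_act, q_act]
  show ((g.1.1 (h.1.1 ⟨q k, _⟩) : leechLattice) : GolayPt → ℤ) = _
  congr 2
  apply Subtype.ext
  exact (q_act h k).symm

theorem image_partner (g : co2R) (x : leechLattice) : g.1.1 (-v0' - x) = -v0' - g.1.1 x := by
  have hg : g.1.1 v0' = v0' := g.2
  rw [sub_eq_add_neg, co0_add, co0_neg, co0_neg, hg, sub_eq_add_neg]

set_option maxRecDepth 100000 in
/-- the action commutes with the passage to the partner -/
theorem act_hi (g : co2R) (i : Fin 2300) : fold (act g (hi i)) = fold (act g (lo i)) := by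
  have h1 : q (act g (hi i)) = -vecOf v0L - q (act g (lo i)) := by
    rw [q_act, q_act]
    have e : (⟨q (hi i), (q_mem (hi i)).1⟩ : leechLattice) = -v0' - ⟨q (lo i), (q_mem (lo i)).1⟩ := by
      apply Subtype.ext
      rw [AddSubgroup.coe_sub, AddSubgroup.coe_neg]
      exact q_hi i
    rw [e, image_partner, AddSubgroup.coe_sub, AddSubgroup.coe_neg]
    rfl
  rcases lo_or_hi (act g (lo i)) with h | h
  · have h2 : q (act g (hi i)) = q (hi (fold (act g (lo i)))) := by
      rw [h1, q_hi, ← h]
    rw [q_injective h2, fold_hi]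
  · have h2 : q (act g (hi i)) = q (lo (fold (act g (lo i)))) := by
      rw [h1, q_lo, ← h]
    rw [q_injective h2, fold_lo]

/-- the action on the pairs -/
noncomputable def rhoFun (g : co2R) (i : Fin 2300) : Fin 2300 := fold (act g (lo i))

theorem fold_act (g : co2R) (k : Fin 4600) : fold (act g k) = rhoFun g (fold k) := by
  rcases lo_or_hi k with h | h
  · rw [rhoFun, ← h]
  · rw [rhoFun, ← act_hi, ← h]

theorem rhoFun_one (i : Fin 2300) : rhoFun 1 i = i := by rw [rhoFun, act_one, fold_lo]

theorem rhoFun_mul (g h : co2R) (i : Fin 2300) : rhoFun (g * h) i = rhoFun g (rhoFun h i) := by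
  rw [rhoFun, act_mul, fold_act, ← rhoFun]

/-- the permutation representation -/
noncomputable def rho : co2R →* Equiv.Perm (Fin 2300) where
  toFun g :=
    { toFun := rhoFun g
      invFun := rhoFun g⁻¹
      left_inv := fun i => by rw [← rhoFun_mul, inv_mul_cancel, rhoFun_one]
      right_inv := fun i => by rw [← rhoFun_mul, mul_inv_cancel, rhoFun_one] }
  map_one' := Equiv.ext rhoFun_one
  map_mul' g h := Equiv.ext (rhoFun_mul g h)

theorem rho_apply (g : co2R) (i : Fin 2300) : rho g i = fold (act g (lo i)) := rfl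

/-- the permutation of a good word -/
theorem exists_rho_eq (w : List Prim) (hw : GoodWord [v0L] w) (c : ℕ) (hic : IsCode 2300 c)
    (hact : ∀ i < 2300, actOK w c i = true) : ∃ g : co2R, rho g = dec 2300 c := by
  obtain ⟨g, hg⟩ := exists_of_goodWord w hw
  refine ⟨g, Equiv.ext fun i => ?_⟩
  rw [rho_apply]
  have hq : q (act g (lo i)) = vecOf (actW w (Co2P.pt i.val)) := by
    rw [q_act]
    exact (hg (qL (lo i)) (q_mem (lo i)).1).trans (by rw [qL_lo])
  have := hact i.val i.2
  rw [actOK, eqOrPartner, Bool.or_eq_true, beq_iff_eq, beq_iff_eq] at this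
  have hj : lk c i.val = (dec 2300 c i).val := (dec_apply n_le hic i).symm
  rw [hj] at this
  rcases this with h | h
  · have h2 : q (act g (lo i)) = q (lo (dec 2300 c i)) := by
      rw [hq, h]
      show _ = vecOf (qL (lo (dec 2300 c i)))
      rw [qL_lo]
    rw [q_injective h2, fold_lo]
  · have h2 : q (act g (lo i)) = q (hi (dec 2300 c i)) := by
      rw [hq, h]
      show _ = vecOf (qL (hi (dec 2300 c i)))
      rw [qL_hi]
    rw [q_injective h2, fold_hi]

/-- the second Conway group on 2300 points -/
noncomputable def P : Subgroup (Equiv.Perm (Fin 2300)) := rho.range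

theorem gA_mem : gA ∈ P := by
  obtain ⟨g, hg⟩ := exists_rho_eq wA wA_good ca isCode_ca chk_actA
  exact ⟨g, hg⟩

theorem gB_mem : gB ∈ P := by
  obtain ⟨g, hg⟩ := exists_rho_eq wB wB_good cb isCode_cb chk_actB
  exact ⟨g, hg⟩

theorem gA_ne_one : gA ≠ 1 := by
  intro h
  have h1 := dec_apply n_le isCode_ca ⟨0, by norm_num⟩
  rw [show dec 2300 ca = gA from rfl, h] at h1
  exact chk_codes.2.2.2.2 h1.symm

theorem rho_injective : Function.Injective rho := by
  have : IsSimpleGroup ↥co2R := isSimpleGroup_co2Ref
  rw [← MonoidHom.ker_eq_bot_iff]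
  rcases (rho.normal_ker).eq_bot_or_eq_top with h | h
  · exact h
  · exfalso
    obtain ⟨g, hg⟩ := exists_rho_eq wA wA_good ca isCode_ca chk_actA
    have : g ∈ rho.ker := by rw [h]; exact Subgroup.mem_top g
    rw [MonoidHom.mem_ker, hg] at this
    exact gA_ne_one this

/-- the reference stabiliser is isomorphic to the permutation group -/
noncomputable def co2REquiv : ↥co2R ≃* ↥P := MonoidHom.ofInjective rho_injective

theorem card_P : Nat.card P = 42305421312000 := by
  rw [← card_co2Ref]
  exact (Nat.card_congr co2REquiv.toEquiv).symm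

instance : Finite ↥P := Nat.finite_of_card_ne_zero (by rw [card_P]; norm_num)

theorem isSimple_P : IsSimpleGroup ↥P := by
  have : IsSimpleGroup ↥co2R := isSimpleGroup_co2Ref
  exact co2REquiv.symm.isSimpleGroup

end Cfsg.Agent.Co2P
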