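import Cfsg.Agent.Lib.Lead.Co2.Data

set_option autoImplicit false
set_option maxRecDepth 100000

namespace Cfsg.Agent.Co2P

open Cfsg Cfsg.Agent.Lib.Helper6.Leech Cfsg.Agent.Lib.Helper6.Golay Cfsg.Agent.PL

/-! # The second Conway group on 2300 points: kernel checks -/

/-- the word of the first generator -/
def wA : List Prim := co2Gens.getD 0 []
/-- the word of the second generator -/
def wB : List Prim := co2Gens.getD 3 []

/-- the partner `-u - x` of a coordinate list -/
def negSubL (u x : List ℤ) : List ℤ := (List.range 24).map fun i => -u.getD i 0 - x.getD i 0

/-- a key of a coordinate list -/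
def keyL (x : List ℤ) : ℕ := x.foldr (fun a acc => Nat.add (Int.toNat (a + 8)) (Nat.mul 16 acc)) 0

/-- the list is strictly increasing -/
def incr : List ℕ → Bool
  | a :: b :: l => Nat.blt a b && incr (b :: l)
  | _ => true

/-- the image is the expected vector or its partner -/
def eqOrPartner (y z : List ℤ) : Bool := (y == z) || (y == negSubL v0L z)

/-- the word `w` acts on the `i`-th pair as the code `c` -/
def actOK (w : List Prim) (c i : ℕ) : Bool := eqOrPartner (actW w (pt i)) (pt (lk c i))

theorem chk_root : (inLeechL (pt 0) && (normL (pt 0) == 32) && (dotL v0L (pt 0) == -16)) = true := by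
  decide +kernel

theorem chk_trace : ((List.range 2300).all fun t => traceTo [cai, cbi] ptLab 0 24 t) = true := by decide +kernel

theorem chk_keys : incr (((List.range 2300).map fun i => keyL (pt i)) ++
    ((List.range 2300).map fun i => keyL (negSubL v0L (pt i))).reverse) = true := by decide +kernel

theorem chk_codes : codeOK 2300 ca cai = true ∧ codeOK 2300 cb cbi = true ∧ pinv 2300 ca = cai ∧ pinv 2300 cb = cbi ∧
    lk ca 0 ≠ 0 := by decide +kernel

theorem chk_actA_0 : ((List.range' 0 230).all fun i => actOK wA ca i) = true := by decide +kernel

theorem chk_actA_1 : ((List.range' 230 230).all fun i => actOK wA ca i) = true := by decide +kernel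

theorem chk_actA_2 : ((List.range' 460 230).all fun i => actOK wA ca i) = true := by decide +kernel

theorem chk_actA_3 : ((List.range' 690 230).all fun i => actOK wA ca i) = true := by decide +kernel

theorem chk_actA_4 : ((List.range' 920 230).all fun i => actOK wA ca i) = true := by decide +kernel

theorem chk_actA_5 : ((List.range' 1150 230).all fun i => actOK wA ca i) = true := by decide +kernel

theorem chk_actA_6 : ((List.range' 1380 230).all fun i => actOK wA ca i) = true := by decide +kernel

theorem chk_actA_7 : ((List.range' 1610 230).all fun i => actOK wA ca i) = true := by decide +kernel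

theorem chk_actA_8 : ((List.range' 1840 230).all fun i => actOK wA ca i) = true := by decide +kernel

theorem chk_actA_9 : ((List.range' 2070 230).all fun i => actOK wA ca i) = true := by decide +kernel

theorem chk_actB_0 : ((List.range' 0 230).all fun i => actOK wB cb i) = true := by decide +kernel

theorem chk_actB_1 : ((List.range' 230 230).all fun i => actOK wB cb i) = true := by decide +kernel

theorem chk_actB_2 : ((List.range' 460 230).all fun i => actOK wB cb i) = true := by decide +kernel

theorem chk_actB_3 : ((List.range' 690 230).all fun i => actOK wB cb i) = true := by decide +kernel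

theorem chk_actB_4 : ((List.range' 920 230).all fun i => actOK wB cb i) = true := by decide +kernel

theorem chk_actB_5 : ((List.range' 1150 230).all fun i => actOK wB cb i) = true := by decide +kernel

theorem chk_actB_6 : ((List.range' 1380 230).all fun i => actOK wB cb i) = true := by decide +kernel

theorem chk_actB_7 : ((List.range' 1610 230).all fun i => actOK wB cb i) = true := by decide +kernel

theorem chk_actB_8 : ((List.range' 1840 230).all fun i => actOK wB cb i) = true := by decide +kernel

theorem chk_actB_9 : ((List.range' 2070 230).all fun i => actOK wB cb i) = true := by decide +kernel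

/-- a property of the numbers below `len * m` follows from its checks on `m` intervals of length `len` -/
theorem of_chunks (f : ℕ → Bool) (len m : ℕ) (h : ∀ k < m, ((List.range' (len * k) len).all f) = true) :
    ∀ i < len * m, f i = true := by
  intro i hi
  have hlen : 0 < len := by
    rcases Nat.eq_zero_or_pos len with h0 | h0
    · rw [h0, Nat.zero_mul] at hi; exact absurd hi (Nat.not_lt_zero i)
    · exact h0
  have hk : i / len < m := Nat.div_lt_of_lt_mul hi
  have := h (i / len) hk
  rw [List.all_eq_true] at this
  apply this
  rw [List.mem_range'_1]
  constructor
  · exact Nat.mul_div_le i len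
  · have := Nat.lt_mul_div_succ i hlen
    rw [Nat.mul_succ] at this
    exact this

theorem chk_actA : ∀ i < 2300, actOK wA ca i = true := by
  apply of_chunks (actOK wA ca) 230 10
  intro k hk
  interval_cases k
  · exact chk_actA_0
  · exact chk_actA_1
  · exact chk_actA_2
  · exact chk_actA_3
  · exact chk_actA_4
  · exact chk_actA_5
  · exact chk_actA_6
  · exact chk_actA_7
  · exact chk_actA_8
  · exact chk_actA_9

theorem chk_actB : ∀ i < 2300, actOK wB cb i = true := by
  apply of_chunks (actOK wB cb) 230 10
  intro k hk
  interval_cases k
  · exact chk_actB_0
  · exact chk_actB_1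
  · exact chk_actB_2
  · exact chk_actB_3
  · exact chk_actB_4
  · exact chk_actB_5
  · exact chk_actB_6
  · exact chk_actB_7
  · exact chk_actB_8
  · exact chk_actB_9

end Cfsg.Agent.Co2P
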