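import Cfsg.Agent.Lib.Lead.Co2.OutData

/-! # The outer automorphism group of the second Conway group: kernel checks -/

set_option autoImplicit false
set_option maxRecDepth 100000

namespace Cfsg.Agent.Co2P

open Cfsg.Agent.PL
open Cfsg.Agent.PG (allB)

/-- the action of the candidate image `x ^ r * (w * y ^ i)` of `x * w` -/
def candF (r i q : ℕ) : ℕ := (lk cx)^[r] (lk cw ((lk cy)^[i] q))

theorem chk_xyw : runK 2300 progXYW [cbi, cb, cai, ca] (fun r => idxXYW.map fun i => r.getD i (pone 2300)) =
    [cx, cy, cw] := by decide +kernel

theorem chk_sgA : runK 2300 progSGA [cw, cy, cx] (fun r => idxSGA.map fun i => r.getD i (pone 2300)) =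
    sgAList := by decide +kernel

theorem chk_sgB : runK 2300 progSGB [sgA_1_1, sgA_1_0] (fun r => idxSGB.map fun i => r.getD i (pone 2300)) =
    sgBList := by decide +kernel

theorem chk_gensA : (LsA.all fun L => L.2.1.all fun c => codesA.contains c) = true := by decide +kernel

theorem chk_gensB : (LsB.all fun L => L.2.1.all fun c => codesB.contains c) = true := by decide +kernel

theorem chk_treeA : treeOK 2300 [] LsA = true := by decide +kernel

theorem chk_treeB : treeOK 2300 [] LsB = true := by decide +kernel

theorem chk_countsA : (treeCounts 2300 16 LsA).prod = 42305421312000 := by decide +kernel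

theorem chk_countsB : (treeCounts 2300 16 LsB).prod = 42305421312000 := by decide +kernel

theorem chk_cycA : baseCycle cx LsA = true := by decide +kernel

theorem chk_cycB : baseCycle cy LsB = true := by decide +kernel

theorem chk_centX : (conjList 2300 16 cx cx [] LsA).length = 23 := by decide +kernel

theorem chk_centY : (conjList 2300 16 cy cy [] LsB).length = 11 := by decide +kernel

theorem chk_relX : allB 2300 (fun q => Nat.beq ((lk cx)^[23] q) q) = true ∧ lk cx 0 ≠ 0 := by decide +kernel

theorem chk_relY : allB 2300 (fun q => Nat.beq ((lk cy)^[11] q) q) = true ∧ lk cy 0 ≠ 0 := by decide +kernel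

theorem chk_relYX : allB 2300 (fun q => Nat.beq (lk cy (lk cx q)) ((lk cx)^[9] (lk cy q))) = true := by
  decide +kernel

theorem chk_relWY : allB 2300 (fun q => Nat.beq (lk cw (lk cy q)) ((lk cy)^[7] (lk cw q))) = true := by
  decide +kernel

theorem chk_relXW : allB 2300 (fun q => Nat.beq ((fun t => lk cx (lk cw t))^[15] q) q) = true := by decide +kernel

theorem chk_kill : ([1, 22].all fun r => (List.range 11).all fun i =>
    (Nat.beq r 1 && Nat.beq i 0) || !(Nat.beq ((candF r i)^[15] q0) q0)) = true := by decide +kernel

end Cfsg.Agent.Co2P
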